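import Cfsg.Agent.Lib.SL3Max.Involution
import Cfsg.Prelude.Def_GeometricClasses
import Cfsg.Prelude.Def_Classical

/-!
# Mitchell's classification in dimension three: shared definitions

`G` is always a subgroup of `GL (Fin 3) F` inside `SL`. See `PLAN.md` in this folder.
-/

set_option autoImplicit false

namespace Cfsg.Agent.Mitchell

open Cfsg.Agent.SL3Max Cfsg.Agent.Transvect

variable {F : Type*} [Field F]

/-- No transvection lies in `G`. -/
def ElationFree (G : Subgroup (GL (Fin 3) F)) : Prop := ∀ c : V3 F, ¬ Cen G c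

/-- No proper non-zero subspace is invariant. -/
def Irred (G : Subgroup (GL (Fin 3) F)) : Prop :=
  ∀ W : Submodule F (V3 F), (∀ g ∈ G, ∀ w ∈ W, app g w ∈ W) → W = ⊥ ∨ W = ⊤

/-- The transvections of `G`. -/
def tvSet (G : Subgroup (GL (Fin 3) F)) : Set (GL (Fin 3) F) :=
  {g | g ∈ G ∧ ∃ (c : V3 F) (φ : D3 F), c ≠ 0 ∧ φ ≠ 0 ∧ φ c = 0 ∧ g = tv c φ}

/-- `SL₃(K)` in the coordinates given by the columns of `P`. -/
noncomputable def embK (K : Subfield F) (P : GL (Fin 3) F) :
    Matrix.SpecialLinearGroup (Fin 3) K →* GL (Fin 3) F :=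
  ((MulAut.conj P).toMonoidHom.comp Matrix.SpecialLinearGroup.toGL).comp
    (Matrix.SpecialLinearGroup.map K.subtype)

/-- `GL₃(K)` in the coordinates given by the columns of `P`. -/
noncomputable def embGL (K : Subfield F) (P : GL (Fin 3) F) : GL (Fin 3) K →* GL (Fin 3) F :=
  (MulAut.conj P).toMonoidHom.comp (Matrix.GeneralLinearGroup.map K.subtype)

/-- The two possible groups generated by transvections. -/
def IsSLOrSU (G : Subgroup (GL (Fin 3) F)) : Prop :=
  ∃ (K : Subfield F) (P : GL (Fin 3) F),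
    G = (⊤ : Subgroup (Matrix.SpecialLinearGroup (Fin 3) K)).map (embK K P) ∨
      ∃ r : ℕ, Nat.card K = r ^ 2 ∧ G = (Cfsg.SU 3 K r).map (embK K P)

end Cfsg.Agent.Mitchell
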